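import Mathlib
import Groth.Prelude.Def_W4c3ghconstell
import Groth.Agent.Hopf.Coeff

/-! Isotypic components and weights of equivariant modules. -/

set_option autoImplicit false

universe u v w w'

noncomputable section

set_option linter.unusedSectionVars false

open TensorProduct W4c3ghconstell Groth.ComodLib

namespace Groth.GHConst

section Coalg

variable {k : Type u} {A : Type v} [Field k] [AddCommGroup A] [Module k A] [Coalgebra k A]
  {M : Type w'} [AddCommGroup M] [Module k M] [HopfRep.Comod k A M]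

theorem mem_isoComp_iff (D : Submodule k A) (x : M) :
    x ∈ isoComp M D ↔ ∀ ψ : M →ₗ[k] k, cf (A := A) ψ x ∈ D :=
  mem_range_lTensor_iff D _

theorem op_mem_isoComp {D : Submodule k A} (hD : W4c3ghconstell.IsSubcoalg k A D) (φ : A →ₗ[k] k) {x : M}
    (hx : x ∈ isoComp M D) : op φ x ∈ isoComp M D := by
  rw [mem_isoComp_iff] at hx ⊢
  intro ψ
  have h := ((ComodLib.isSubcoalg_iff D).1 hD _ (hx ψ)).1 φ
  rwa [comul_cf, slice_rTensor] at h

theorem op_eq_self {D : Submodule k A} {φ : A →ₗ[k] k}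
    (hφ : ∀ a ∈ D, φ a = Coalgebra.counit (R := k) a) {x : M} (hx : x ∈ isoComp M D) : op φ x = x := by
  rw [← sub_eq_zero]
  refine (Module.forall_dual_apply_eq_zero_iff k _).1 fun ψ => ?_
  rw [map_sub, ← apply_cf, hφ _ ((mem_isoComp_iff D x).1 hx ψ), apply_cf, op_counit, sub_self]

theorem op_eq_zero {D : Submodule k A} {φ : A →ₗ[k] k} (hφ : ∀ a ∈ D, φ a = 0) {x : M}
    (hx : x ∈ isoComp M D) : op φ x = 0 := by
  refine (Module.forall_dual_apply_eq_zero_iff k _).1 fun ψ => ?_
  rw [← apply_cf, hφ _ ((mem_isoComp_iff D x).1 hx ψ)]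

theorem exists_form (D B : Submodule k A) (h : Disjoint D B) :
    ∃ φ : A →ₗ[k] k, (∀ a ∈ D, φ a = Coalgebra.counit (R := k) a) ∧ ∀ b ∈ B, φ b = 0 := by
  have hinj : LinearMap.ker (B.mkQ ∘ₗ D.subtype) = ⊥ := by
    rw [LinearMap.ker_eq_bot']
    intro a ha
    rw [LinearMap.comp_apply, Submodule.mkQ_apply, Submodule.Quotient.mk_eq_zero] at ha
    exact Subtype.ext (h.eq_bot.le ⟨a.2, ha⟩)
  obtain ⟨π, hπ⟩ := LinearMap.exists_leftInverse_of_injective _ hinj
  refine ⟨Coalgebra.counit (R := k) ∘ₗ D.subtype ∘ₗ π ∘ₗ B.mkQ, fun a ha => ?_, fun b hb => ?_⟩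
  · have := LinearMap.congr_fun hπ ⟨a, ha⟩
    simp only [LinearMap.comp_apply, Submodule.subtype_apply, LinearMap.id_apply] at this ⊢
    rw [this]
  · simp [(Submodule.Quotient.mk_eq_zero B).2 hb]

theorem eq_of_le {D E : SimpSub k A} (h : D.1 ≤ E.1) : D = E :=
  Subtype.ext ((E.2.2.2 D.1 h D.2.2.1).resolve_left D.2.1)

theorem disjoint_sup_simple [DecidableEq (SimpSub k A)] (s : Finset (SimpSub k A)) :
    ∀ D ∉ s, Disjoint D.1 (s.sup fun E => E.1) := by
  induction s using Finset.induction_on with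
  | empty => intro D _; simp
  | @insert F s hF ih =>
    intro D hD
    rw [Finset.mem_insert, not_or] at hD
    rw [Finset.sup_insert, disjoint_iff, Submodule.eq_bot_iff]
    intro d hd
    rw [Submodule.mem_inf, Submodule.mem_sup] at hd
    obtain ⟨hdD, f, hf, b, hb, hfb⟩ := hd
    obtain ⟨φ, hφ1, hφ2⟩ := exists_form F.1 _ (ih F hF)
    have hsup : W4c3ghconstell.IsSubcoalg k A (s.sup fun E => E.1) := by
      rw [Finset.sup_eq_iSup]
      exact ComodLib.IsSubcoalg.iSup fun E => ComodLib.IsSubcoalg.iSup fun _ => E.2.2.1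
    have hfix : ∀ a ∈ F.1, op φ a = a := fun a ha => by
      refine (Module.forall_dual_apply_eq_zero_iff k _).1 (fun ψ => ?_) |> sub_eq_zero.1
      have hm : cf (A := A) ψ a ∈ F.1 := ((ComodLib.isSubcoalg_iff F.1).1 F.2.2.1 a ha).2 ψ
      rw [map_sub, ← apply_cf, hφ1 _ hm, apply_cf, op_counit, sub_self]
    have hkill : ∀ a ∈ (s.sup fun E => E.1), op φ a = 0 := fun a ha => by
      refine (Module.forall_dual_apply_eq_zero_iff k _).1 fun ψ => ?_
      rw [← apply_cf]
      exact hφ2 _ (((ComodLib.isSubcoalg_iff _).1 hsup a ha).2 ψ)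
    have hfD : f ∈ D.1 := by
      have h1 := ((ComodLib.isSubcoalg_iff D.1).1 D.2.2.1 d hdD).1 φ
      change op φ d ∈ D.1 at h1
      rwa [← hfb, map_add, hfix f hf, hkill b hb, add_zero] at h1
    have hDF : Disjoint D.1 F.1 := by
      rw [disjoint_iff]
      rcases D.2.2.2 (D.1 ⊓ F.1) inf_le_left (ComodLib.IsSubcoalg.inf D.2.2.1 F.2.2.1) with h | h
      · exact h
      · exact absurd (eq_of_le (inf_eq_left.1 h)) hD.1
    have hf0 : f = 0 := (Submodule.mem_bot k).1 (hDF.eq_bot.le ⟨hfD, hf⟩)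
    rw [hf0, zero_add] at hfb
    subst hfb
    exact (Submodule.mem_bot k).1 ((ih D hD.2).eq_bot.le ⟨hdD, hb⟩)

/-- A subcomodule is the sum of its isotypic parts. -/
theorem le_iSup_inf {N : Submodule k M} (hN : HopfRep.IsSubcomod (k := k) (A := A) N)
    (htop : (⨆ D : SimpSub k A, isoComp M D.1) = ⊤) :
    N ≤ ⨆ D : SimpSub k A, N ⊓ isoComp M D.1 := by
  classical
  intro x hx
  obtain ⟨c, hc, rfl⟩ := (Submodule.mem_iSup_iff_exists_finsupp _ x).1 (htop ▸ Submodule.mem_top)
  refine Submodule.sum_mem _ fun D hD => Submodule.mem_iSup_of_mem D ⟨?_, hc D⟩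
  obtain ⟨φ, h1, h2⟩ := exists_form D.1 _ (disjoint_sup_simple (c.support.erase D) D (Finset.notMem_erase _ _))
  have := (isSubcomod_iff N).1 hN φ _ hx
  rw [Finsupp.sum, map_sum, Finset.sum_eq_single D] at this
  · rwa [op_eq_self h1 (hc D)] at this
  · intro E hE hne
    exact op_eq_zero (fun a ha => h2 a (SetLike.le_def.1 (Finset.le_sup (f := fun E : SimpSub k A => E.1) (Finset.mem_erase.2 ⟨hne, hE⟩)) ha))
      (hc E)
  · exact fun h => absurd hD h

end Coalg

section Module

variable {k : Type u} {A : Type v} [Field k] [CommRing A] [Bialgebra k A]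
  {R : Type w} [CommRing R] [Algebra k R] [HopfRep.Comod k A R]
  {M : Type w'} [AddCommGroup M] [Module k M] [Module R M] [IsScalarTower k R M]
  [HopfRep.Comod k A M] [TameAct.IsHopfMod k A R M]

theorem op_smul_mem_span {U : Set M} (hU : ∀ (φ : A →ₗ[k] k), ∀ x ∈ U, op φ x ∈ U)
    (φ : A →ₗ[k] k) (r : R) {x : M} (hx : x ∈ U) : op φ (r • x) ∈ Submodule.span R U := by
  rw [op_apply, TameAct.IsHopfMod.coact_smul]
  generalize HopfRep.Comod.coact (k := k) (A := A) r = y
  induction y using TensorProduct.induction_on with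
  | zero => simp
  | add p q hp hq => simp only [map_add, LinearMap.add_apply]; exact Submodule.add_mem _ hp hq
  | tmul b a =>
    have e : ∀ z : M ⊗[k] A, slice φ (TameAct.hmSMul k A R M (b ⊗ₜ[k] a) z) =
        b • slice (φ ∘ₗ LinearMap.mul k A a) z := by
      intro z
      induction z using TensorProduct.induction_on with
      | zero => simp
      | tmul m a' => simp [smul_comm b]
      | add p q hp hq => simp only [map_add, hp, hq, smul_add]
    rw [e]
    exact Submodule.smul_mem _ _ (Submodule.subset_span (hU _ x hx))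

theorem isSubcomod_span {U : Set M} (hU : ∀ (φ : A →ₗ[k] k), ∀ x ∈ U, op φ x ∈ U) :
    HopfRep.IsSubcomod (k := k) (A := A) ((Submodule.span R U).restrictScalars k) := by
  rw [isSubcomod_iff]
  intro φ x hx
  simp only [Submodule.restrictScalars_mem] at hx ⊢
  rw [Submodule.mem_span_iff_exists_finset_subset] at hx
  obtain ⟨c, t, ht, -, rfl⟩ := hx
  rw [map_sum]
  exact Submodule.sum_mem _ fun y hy => op_smul_mem_span hU φ (c y) (ht hy)

theorem isSubcomod_genIn (S : Set (SimpSub k A)) {N : Submodule R M}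
    (hN : HopfRep.IsSubcomod (k := k) (A := A) (N.restrictScalars k)) :
    HopfRep.IsSubcomod (k := k) (A := A) ((genIn k A R M S N).restrictScalars k) := by
  refine isSubcomod_span fun φ x hx => ?_
  simp only [Set.mem_iUnion] at hx ⊢
  obtain ⟨D, hD, hxN, hxD⟩ := hx
  exact ⟨D, hD, (isSubcomod_iff _).1 hN φ x hxN, op_mem_isoComp D.2.2.1 φ hxD⟩

omit [HopfRep.Comod k A R] [TameAct.IsHopfMod k A R M] in
theorem genIn_le (S : Set (SimpSub k A)) (N : Submodule R M) : genIn k A R M S N ≤ N :=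
  Submodule.span_le.2 (Set.iUnion₂_subset fun _ _ _ hx => hx.1)

omit [HopfRep.Comod k A R] [TameAct.IsHopfMod k A R M] in
theorem genIn_inf {S : Set (SimpSub k A)} {N : Submodule R M} {D : SimpSub k A} (hD : D ∈ S) :
    (genIn k A R M S N).restrictScalars k ⊓ isoComp M D.1 = N.restrictScalars k ⊓ isoComp M D.1 :=
  le_antisymm (inf_le_inf_right _ (genIn_le S N)) fun _ hx =>
    ⟨Submodule.subset_span (Set.mem_iUnion₂.2 ⟨D, hD, hx⟩), hx.2⟩

omit [HopfRep.Comod k A R] [TameAct.IsHopfMod k A R M] in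
theorem genIn_idem (S : Set (SimpSub k A)) (N : Submodule R M) :
    genIn k A R M S (genIn k A R M S N) = genIn k A R M S N := by
  refine le_antisymm (genIn_le _ _) (Submodule.span_mono (Set.iUnion₂_mono fun D hD => ?_))
  rw [genIn_inf hD]

variable {h : SimpSub k A → ℕ} (hM : IsConstellation k A R M h) (θ : SimpSub k A → ℚ)

omit [HopfRep.Comod k A R] [TameAct.IsHopfMod k A R M] in
include hM in
theorem hilbAt_top (D : SimpSub k A) : hilbAt M ⊤ D = h D := by
  rw [hilbAt, top_inf_eq, (hM.2.2 D).2]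

omit [HopfRep.Comod k A R] [TameAct.IsHopfMod k A R M] in
include hM in
theorem hilbAt_mono {N N' : Submodule k M} (hle : N' ≤ N) (D : SimpSub k A) :
    hilbAt M N' D ≤ hilbAt M N D := by
  have := (hM.2.2 D).1
  exact Submodule.finrank_mono (inf_le_inf_right _ hle)

omit [HopfRep.Comod k A R] [TameAct.IsHopfMod k A R M] in
include hM in
theorem hilbAt_lt {N N' : Submodule k M} {D : SimpSub k A} (hlt : N' ⊓ isoComp M D.1 < N ⊓ isoComp M D.1) :
    hilbAt M N' D < hilbAt M N D := by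
  have := (hM.2.2 D).1
  exact Submodule.finrank_lt_finrank_of_lt hlt

variable (hsum : Summable fun D => (θ D : ℝ) * (h D : ℝ))

omit [HopfRep.Comod k A R] [TameAct.IsHopfMod k A R M] in
include hM hsum in
theorem summable_theta (N : Submodule k M) : Summable fun D => (θ D : ℝ) * (hilbAt M N D : ℝ) :=
  Summable.of_abs (hsum.abs.of_nonneg_of_le (fun _ => abs_nonneg _) fun D => by
    rw [abs_mul, abs_mul, Nat.abs_cast, Nat.abs_cast]
    refine mul_le_mul_of_nonneg_left ?_ (abs_nonneg _)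
    exact_mod_cast le_of_le_of_eq (hilbAt_mono hM le_top D) (hilbAt_top hM D))

omit [HopfRep.Comod k A R] [TameAct.IsHopfMod k A R M] in
include hM in
theorem theta_top : theta M θ ⊤ = ∑' D, (θ D : ℝ) * (h D : ℝ) := by
  simp only [theta, hilbAt_top hM]

omit [HopfRep.Comod k A R] [TameAct.IsHopfMod k A R M] in
include hM in
theorem term_le {N N' : Submodule k M} (hle : N' ≤ N) (D : SimpSub k A)
    (hneg : θ D < 0 → N' ⊓ isoComp M D.1 = N ⊓ isoComp M D.1) :
    (θ D : ℝ) * (hilbAt M N' D : ℝ) ≤ (θ D : ℝ) * (hilbAt M N D : ℝ) := by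
  rcases lt_or_ge (θ D) 0 with hD | hD
  · rw [hilbAt, hilbAt, hneg hD]
  · exact mul_le_mul_of_nonneg_left (by exact_mod_cast hilbAt_mono hM hle D) (by exact_mod_cast hD)

omit [HopfRep.Comod k A R] [TameAct.IsHopfMod k A R M] in
include hM hsum in
theorem theta_le {N N' : Submodule k M} (hle : N' ≤ N)
    (hneg : ∀ D, θ D < 0 → N' ⊓ isoComp M D.1 = N ⊓ isoComp M D.1) :
    theta M θ N' ≤ theta M θ N :=
  (summable_theta hM θ hsum N').tsum_le_tsum (fun D => term_le hM θ hle D (hneg D))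
    (summable_theta hM θ hsum N)

omit [HopfRep.Comod k A R] [TameAct.IsHopfMod k A R M] in
include hM hsum in
theorem theta_lt {N N' : Submodule k M} (hle : N' ≤ N)
    (hneg : ∀ D, θ D < 0 → N' ⊓ isoComp M D.1 = N ⊓ isoComp M D.1)
    {D : SimpSub k A} (hne : θ D ≠ 0) (hD : N' ⊓ isoComp M D.1 ≠ N ⊓ isoComp M D.1) :
    theta M θ N' < theta M θ N := by
  have hpos : 0 < θ D := lt_of_le_of_ne (not_lt.1 fun h => hD (hneg D h)) (Ne.symm hne)
  refine (summable_theta hM θ hsum N').tsum_lt_tsum (i := D) (fun E => term_le hM θ hle E (hneg E)) ?_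
    (summable_theta hM θ hsum N)
  exact mul_lt_mul_of_pos_left
    (by exact_mod_cast hilbAt_lt hM (lt_of_le_of_ne (inf_le_inf_right _ hle) hD)) (by exact_mod_cast hpos)

omit [HopfRep.Comod k A R] [TameAct.IsHopfMod k A R M] in
include hM in
theorem exists_ne_inf {N : Submodule k M} (hN : N ≠ ⊤) :
    ∃ D : SimpSub k A, N ⊓ isoComp M D.1 ≠ ⊤ ⊓ isoComp M D.1 := by
  by_contra hc
  push Not at hc
  refine hN (top_le_iff.1 (hM.2.1 ▸ iSup_le fun D => ?_))
  rw [← top_inf_eq (isoComp M D.1), ← hc D]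
  exact inf_le_left

omit [HopfRep.Comod k A R] [TameAct.IsHopfMod k A R M] in
include hM in
theorem exists_inf_ne_bot {N : Submodule k M} (hN : HopfRep.IsSubcomod (k := k) (A := A) N) (h0 : N ≠ ⊥) :
    ∃ D : SimpSub k A, N ⊓ isoComp M D.1 ≠ ⊥ := by
  by_contra hc
  push Not at hc
  refine h0 (le_bot_iff.1 ((le_iSup_inf hN hM.2.1).trans (iSup_le fun D => (hc D).le)))

omit [HopfRep.Comod k A R] [TameAct.IsHopfMod k A R M] in
theorem hilbAt_eq_zero_of_eq_bot {N : Submodule k M} {D : SimpSub k A} (hN : N ⊓ isoComp M D.1 = ⊥) :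
    hilbAt M N D = 0 := by
  rw [hilbAt, hN, finrank_bot]

omit [HopfRep.Comod k A R] [TameAct.IsHopfMod k A R M] in
theorem theta_bot : theta M θ (⊥ : Submodule k M) = 0 := by
  rw [theta]
  convert tsum_zero with D
  rw [hilbAt_eq_zero_of_eq_bot (bot_inf_eq _), Nat.cast_zero, mul_zero]

end Module

end Groth.GHConst
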